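import Groth.Agent.H4DR.Compact.Supp
import Groth.Agent.H4DR.TorAmp.Modules
import Groth.Agent.H4DR.TorAmp.Derived
import Mathlib.Algebra.Homology.HomologicalComplexLimits

/-!
# Compact objects are perfect
-/

set_option autoImplicit false
set_option linter.style.haveILetI false

universe u

open CategoryTheory CategoryTheory.Limits CategoryTheory.Pretriangulated
open Groth.Agent.H16Derived

attribute [local instance] HasDerivedCategory.standard

namespace Groth.Agent.H4DR.Compact

open Groth.Agent.H4DR.TorAmp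

variable {R : Type u} [CommRing R]

/-- A module in degree `n`. -/
noncomputable abbrev Φ (n : ℤ) : ModuleCat.{u} R ⥤ Dual.D R :=
  HomologicalComplex.single (ModuleCat.{u} R) (ComplexShape.up ℤ) n ⋙ DerivedCategory.Q

lemma isPerfect_single (n : ℤ) (F : ModuleCat.{u} R) [Module.Finite R F] [Module.Projective R F] :
    DRing.IsPerfect R ((Φ n).obj F) := by
  refine ⟨_, n, n, fun i hi => HomologicalComplex.isZero_single_obj_X (ComplexShape.up ℤ) n F i (by omega),
    fun i => ?_, ⟨Iso.refl _⟩⟩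
  by_cases h : i = n
  · subst h
    let e := (HomologicalComplex.singleObjXSelf (ComplexShape.up ℤ) i F).toLinearEquiv
    exact ⟨Module.Finite.equiv e.symm, Module.Projective.of_equiv e.symm⟩
  · haveI := ModuleCat.subsingleton_of_isZero
      (HomologicalComplex.isZero_single_obj_X (ComplexShape.up ℤ) n F i h)
    exact ⟨Module.Finite.of_finite, Module.Projective.of_lifting_property'' fun g _ =>
      ⟨0, LinearMap.ext fun x => Subsingleton.elim _ _⟩⟩

/-- A map into a free module in one degree factors through a finite free direct summand. -/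
theorem exists_factor_free {L : Dual.D R} (hL : Supp L) (n : ℤ) (ι : Type u)
    (x : L ⟶ (Φ n).obj (ModuleCat.of R (ι →₀ R))) :
    ∃ (F : ModuleCat.{u} R) (_ : Module.Finite R F) (_ : Module.Projective R F)
      (ρ : F ⟶ ModuleCat.of R (ι →₀ R)) (σ : ModuleCat.of R (ι →₀ R) ⟶ F),
      ρ ≫ σ = 𝟙 _ ∧ (x ≫ (Φ n).map σ) ≫ (Φ n).map ρ = x := by
  classical
  let c : Cofan fun _ : ι => ModuleCat.of R R :=
    Cofan.mk (ModuleCat.of R (ι →₀ R)) fun k => ModuleCat.ofHom (Finsupp.lsingle k)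
  have hc : IsColimit c := Cofan.IsColimit.mk _ (fun s => ModuleCat.ofHom (Finsupp.lsum ℕ fun k => (s.inj k).hom))
    (fun s k => ModuleCat.hom_ext (LinearMap.ext fun r => Finsupp.lsum_single ℕ (fun j => (s.inj j).hom) k r))
    (fun s m hm => ModuleCat.hom_ext (Finsupp.lhom_ext fun k r => by
      show m.hom (Finsupp.single k r) = (Finsupp.lsum ℕ fun j => (s.inj j).hom) (Finsupp.single k r)
      rw [Finsupp.lsum_single, ← hm k]
      rfl))
  let S := HomologicalComplex.single (ModuleCat.{u} R) (ComplexShape.up ℤ) n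
  obtain ⟨s, a, ha⟩ := hL ι _ (Cofan.mk (S.obj c.pt) fun k => S.map (c.inj k))
    ((isColimitMapCoconeCofanMkEquiv S (fun _ : ι => ModuleCat.of R R) c.inj) (isColimitOfPreserves S hc)) x
  let T : Type u := {k : ι // k ∈ s}
  let F : ModuleCat.{u} R := ModuleCat.of R (T →₀ R)
  let ρ : F ⟶ ModuleCat.of R (ι →₀ R) := ModuleCat.ofHom (Finsupp.lmapDomain R R (Subtype.val : T → ι))
  let σ : ModuleCat.of R (ι →₀ R) ⟶ F :=
    ModuleCat.ofHom (Finsupp.lcomapDomain (Subtype.val : T → ι) Subtype.val_injective)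
  have hρσ : ρ ≫ σ = 𝟙 F := ModuleCat.hom_ext (LinearMap.ext fun v =>
    Finsupp.ext fun k => Finsupp.mapDomain_apply Subtype.val_injective v k)
  refine ⟨F, inferInstance, inferInstance, ρ, σ, hρσ, ?_⟩
  rw [Category.assoc, ← Functor.map_comp, ha, Preadditive.sum_comp]
  refine Finset.sum_congr rfl fun k hk => ?_
  have hk' : c.inj k ≫ σ ≫ ρ = c.inj k := ModuleCat.hom_ext (LinearMap.ext fun r => by
    show Finsupp.mapDomain (Subtype.val : T → ι) (σ.hom (Finsupp.single k r)) = Finsupp.single k r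
    rw [show σ.hom (Finsupp.single k r) = Finsupp.single (⟨k, hk⟩ : T) r from Finsupp.ext fun j => by
      show Finsupp.single k r j.1 = Finsupp.single (⟨k, hk⟩ : T) r j
      simp only [Finsupp.single_apply, Subtype.ext_iff]]
    exact Finsupp.mapDomain_single)
  rw [Category.assoc]
  exact congrArg (fun m => a k ≫ m) (((Φ n).map_comp (c.inj k) (σ ≫ ρ)).symm.trans (congrArg (Φ n).map hk'))

section Abstract

variable {D : Type*} [Category D] [Preadditive D] [HasZeroObject D] [HasShift D ℤ]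
  [∀ n : ℤ, (shiftFunctor D n).Additive] [Pretriangulated D]

/-- Splitting off the part of a map killed by the connecting morphism. -/
lemma split_step (T : Triangle D) (hT : T ∈ distTriang D) {K E F : D} (f : K ⟶ T.obj₂) (z : K ⟶ E)
    (u : E ⟶ T.obj₃) (hzu : z ≫ u = f ≫ T.mor₂) (α : E ⟶ F) (β : F ⟶ T.obj₁⟦(1 : ℤ)⟧)
    (hαβ : α ≫ β = u ≫ T.mor₃) (hzα : z ≫ α = 0) :
    ∃ (E₂ : D) (a : E₂ ⟶ E) (b : F ⟶ E₂⟦(1 : ℤ)⟧) (z₂ : K ⟶ E₂) (u₂ : E₂ ⟶ T.obj₂) (v : K ⟶ T.obj₁),
      Triangle.mk a α b ∈ distTriang D ∧ f = z₂ ≫ u₂ + v ≫ T.mor₁ := by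
  obtain ⟨E₂, a, b, hT'⟩ := distinguished_cocone_triangle₁ α
  obtain ⟨(z₂ : K ⟶ E₂), (hz₂ : z = z₂ ≫ a)⟩ := Triangle.coyoneda_exact₂ _ hT' z hzα
  obtain ⟨(u₂ : E₂ ⟶ T.obj₂), (hu₂ : a ≫ u = u₂ ≫ T.mor₂), -⟩ := complete_distinguished_triangle_morphism₁
    (Triangle.mk a α b) T.rotate hT' (rot_of_distTriang _ hT) u β hαβ
  obtain ⟨v, hv⟩ := Triangle.coyoneda_exact₂ T hT (f - z₂ ≫ u₂) (by
    rw [Preadditive.sub_comp, Category.assoc, ← hu₂, ← Category.assoc, ← hz₂, hzu, sub_self])
  exact ⟨E₂, a, b, z₂, u₂, v, hT', by rw [← hv, add_sub_cancel]⟩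

/-- Cancelling a retraction. -/
lemma retract_cancel {A B C F F' : D} (w : A ⟶ B) (J : B ⟶ F) (r : F ⟶ B) (hJr : J ≫ r = 𝟙 B) (g : B ⟶ C)
    (q : A ⟶ F') (ρ : F' ⟶ F) (hq : q ≫ ρ = w ≫ J) : q ≫ (ρ ≫ r) ≫ g = w ≫ g := by
  rw [← Category.assoc, ← Category.assoc, hq, Category.assoc w J r, hJr, Category.comp_id]

end Abstract

/-- `f` factors through a perfect object. -/
def Factors {K X : Dual.D R} (f : K ⟶ X) : Prop :=
  ∃ (E : Dual.D R) (_ : DRing.IsPerfect R E) (z : K ⟶ E) (u : E ⟶ X), z ≫ u = f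

/-- Factorization into a bounded complex of projective modules. -/
theorem factors {K : Dual.D R} (hK : Supp K) : ∀ (N : ℕ) (c : ℤ) (P : DRing.Cx R),
    (∀ i, (i < c ∨ c + N ≤ i) → IsZero (P.X i)) → (∀ i, Module.Projective R (P.X i)) →
    ∀ f : K ⟶ DRing.toD P, Factors f
  | 0, c, P, hb, _ => fun f => by
    have hz : IsZero (DRing.toD P) := DerivedCategory.Q.map_isZero
      ((IsZero.iff_id_eq_zero P).2 (HomologicalComplex.hom_ext _ _ fun i => (hb i (by omega)).eq_of_src _ _))
    exact ⟨(Φ 0).obj (ModuleCat.of R R), isPerfect_single 0 _, 0, 0, hz.eq_of_tgt _ _⟩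
  | N + 1, c, P, hb, hp => fun f => by
    let p : ℤ := c + N
    let G := KFlat.Brutal.geq P p
    have hGz : ∀ i, i ≠ p → IsZero (G.X i) := fun i hi => by
      by_cases hbi : p ≤ i
      · have := KFlat.Brutal.isIso_ι_f P p hbi
        exact (hb i (by omega)).of_iso (asIso ((KFlat.Brutal.ι P p).f i))
      · exact KFlat.Brutal.isZero_geq P _ (by omega)
    haveI : G.IsStrictlyGE p := (CochainComplex.isStrictlyGE_iff _ p).2 fun q hq => hGz q (by omega)
    haveI : G.IsStrictlyLE p := (CochainComplex.isStrictlyLE_iff _ p).2 fun q hq => hGz q (by omega)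
    obtain ⟨Y, ⟨eG⟩⟩ := CochainComplex.exists_iso_single G p
    have := KFlat.Brutal.isIso_ι_f P p (le_refl p)
    haveI := hp p
    haveI : Module.Projective R Y := Module.Projective.of_equiv ((asIso ((KFlat.Brutal.ι P p).f p)).symm ≪≫
      (HomologicalComplex.eval _ _ p).mapIso eG ≪≫
      HomologicalComplex.singleObjXSelf (ComplexShape.up ℤ) p Y).toLinearEquiv
    obtain ⟨j, hj⟩ := (Module.projective_def' (R := R) (P := Y)).1 inferInstance
    let J : Y ⟶ ModuleCat.of R (Y →₀ R) := ModuleCat.ofHom j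
    let r : ModuleCat.of R (Y →₀ R) ⟶ Y := ModuleCat.ofHom (Finsupp.linearCombination R id)
    have hJr : J ≫ r = 𝟙 Y := ModuleCat.hom_ext hj
    let T := DerivedCategory.triangleOfSES (KFlat.Brutal.shortExact P p)
    have hT : T ∈ distTriang _ := DerivedCategory.triangleOfSES_distinguished _
    let e₁ : T.obj₁ ≅ (Φ p).obj Y := DerivedCategory.Q.mapIso eG
    let e₂ : T.obj₁⟦(1 : ℤ)⟧ ≅ (Φ (p - 1)).obj Y :=
      (shiftFunctor (Dual.D R) (1 : ℤ)).mapIso e₁ ≪≫
        ((DerivedCategory.Q (C := ModuleCat.{u} R)).commShiftIso (1 : ℤ)).symm.app _ ≪≫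
        DerivedCategory.Q.mapIso (((CochainComplex.singleFunctors (ModuleCat.{u} R)).shiftIso 1 (p - 1) p (by omega)).app Y)
    obtain ⟨E, hE, z, u, hzu⟩ := factors hK N c (cokernel (KFlat.Brutal.ι P p)) (fun i hi => by
        by_cases hpi : p ≤ i
        · exact KFlat.Brutal.isZero_cokernel P _ hpi
        · have := KFlat.Brutal.isIso_cokernel_π P p (show i < p by omega)
          exact (hb i (by omega)).of_iso (asIso ((cokernel.π (KFlat.Brutal.ι P p)).f i)).symm)
      (fun i => by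
        by_cases hi : i < p
        · have := KFlat.Brutal.isIso_cokernel_π P p hi
          haveI := hp i
          exact Module.Projective.of_equiv (asIso ((cokernel.π (KFlat.Brutal.ι P p)).f i)).toLinearEquiv
        · haveI := ModuleCat.subsingleton_of_isZero (KFlat.Brutal.isZero_cokernel P _ (not_lt.1 hi))
          exact Module.Projective.of_lifting_property'' fun g _ => ⟨0, LinearMap.ext fun x => Subsingleton.elim _ _⟩)
      (f ≫ T.mor₂)
    let J₁ := (Φ (p - 1)).map J
    let r₁ := (Φ (p - 1)).map r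
    have hJr₁ : J₁ ≫ r₁ = 𝟙 _ := ((Φ (p - 1)).map_comp J r).symm.trans
      ((congrArg (Φ (p - 1)).map hJr).trans ((Φ (p - 1)).map_id Y))
    let w : E ⟶ (Φ (p - 1)).obj Y := u ≫ T.mor₃ ≫ e₂.hom
    obtain ⟨F, _, _, ρ, σ, hρσ, hF⟩ := exists_factor_free (supp_of_isPerfect hE) (p - 1) Y (w ≫ J₁)
    let α := (w ≫ J₁) ≫ (Φ (p - 1)).map σ
    have hzw : z ≫ w = 0 :=
      ((Category.assoc _ _ _).symm.trans (congrArg (fun m => m ≫ (T.mor₃ ≫ e₂.hom)) hzu)).trans
        ((Category.assoc _ _ _).trans ((congrArg (fun m => f ≫ m) ((Category.assoc _ _ _).symm.trans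
          ((congrArg (fun m => m ≫ e₂.hom) (comp_distTriang_mor_zero₂₃ T hT)).trans zero_comp))).trans comp_zero))
    have hzα : z ≫ α = 0 := by
      simp only [α, Category.assoc]
      rw [reassoc_of% hzw, zero_comp]
    have hαβ : α ≫ ((Φ (p - 1)).map ρ ≫ r₁) ≫ e₂.inv = u ≫ T.mor₃ := by
      rw [retract_cancel w J₁ r₁ hJr₁ e₂.inv α _ hF]
      exact (Category.assoc _ _ _).trans (congrArg (fun m => u ≫ m)
        ((Category.assoc _ _ _).trans ((congrArg (fun m => T.mor₃ ≫ m) e₂.hom_inv_id).trans (Category.comp_id _))))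
    obtain ⟨E₂, a, b, z₂, u₂, v, hT', hf⟩ := split_step T hT f z u hzu α _ hαβ hzα
    have hE₂ : DRing.IsPerfect R E₂ :=
      isPerfect_obj₂ _ (inv_rot_of_distTriang _ hT') (isPerfect_shift _ (isPerfect_single (p - 1) F)) hE
    let Jp := (Φ p).map J
    let rp := (Φ p).map r
    have hJrp : Jp ≫ rp = 𝟙 _ := ((Φ p).map_comp J r).symm.trans
      ((congrArg (Φ p).map hJr).trans ((Φ p).map_id Y))
    let v' : K ⟶ (Φ p).obj Y := v ≫ e₁.hom
    obtain ⟨F', _, _, ρ', σ', -, hF'⟩ := exists_factor_free hK p Y (v' ≫ Jp)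
    let z₁ := (v' ≫ Jp) ≫ (Φ p).map σ'
    let u₁ : (Φ p).obj F' ⟶ T.obj₂ := ((Φ p).map ρ' ≫ rp) ≫ e₁.inv ≫ T.mor₁
    have h1 : z₁ ≫ u₁ = v ≫ T.mor₁ :=
      (retract_cancel v' Jp rp hJrp (e₁.inv ≫ T.mor₁) z₁ _ hF').trans
        ((Category.assoc _ _ _).trans (congrArg (fun m => v ≫ m) (e₁.hom_inv_id_assoc _)))
    exact ⟨E₂ ⊞ (Φ p).obj F', isPerfect_obj₂ _ (binaryBiproductTriangle_distinguished E₂ ((Φ p).obj F'))
      hE₂ (isPerfect_single p F'), biprod.lift z₂ z₁, biprod.desc u₂ u₁,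
      biprod.lift_desc.trans ((congrArg (fun m => z₂ ≫ u₂ + m) h1).trans hf.symm)⟩

theorem bounded_of_supp {K : Dual.D R} (hK : Supp K) :
    ∃ a b : ℤ, ∀ i, (i < a ∨ b < i) → Subsingleton (Dual.HD R K i) := by
  classical
  let X := DerivedCategory.Q.objPreimage K
  let e : DRing.toD X ≅ K := DerivedCategory.Q.objObjPreimageIso K
  let I : ℤ → ModuleCat.{u} R := fun n => Injective.under (X.homology n)
  let φ : ∀ n, X.opcycles n ⟶ I n := fun n => Injective.factorThru (Injective.ι (X.homology n)) (X.homologyι n)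
  have hφ : ∀ n, X.homologyι n ≫ φ n = Injective.ι (X.homology n) := fun n => Injective.comp_factorThru _ _
  let ψ : ∀ k : ULift.{u} ℤ, X ⟶ (HomologicalComplex.single (ModuleCat.{u} R) (ComplexShape.up ℤ) k.down).obj (I k.down) :=
    fun k => HomologicalComplex.mkHomToSingle (X.pOpcycles k.down ≫ φ k.down) fun i _ => by
      rw [X.d_pOpcycles_assoc, zero_comp]
  obtain ⟨s, hs⟩ := eventually_zero hK e ψ fun i => (Set.finite_singleton (⟨i⟩ : ULift.{u} ℤ)).subset fun k hk => by
    by_contra hne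
    exact hk ((HomologicalComplex.isZero_single_obj_X (ComplexShape.up ℤ) k.down _ i
      (fun e' => hne (ULift.ext _ _ e'.symm))).eq_of_tgt _ _)
  have hvan : ∀ n : ℤ, (⟨n⟩ : ULift.{u} ℤ) ∉ s → Subsingleton (Dual.HD R K n) := fun n hn => by
    have h0 : HomologicalComplex.homologyMap (ψ ⟨n⟩) n = 0 := by
      have h := (DerivedCategory.homologyFunctorFactors (ModuleCat.{u} R) n).hom.naturality (ψ ⟨n⟩)
      rw [show (DerivedCategory.Q ⋙ DerivedCategory.homologyFunctor (ModuleCat.{u} R) n).map (ψ ⟨n⟩) = 0 from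
        (congrArg (DerivedCategory.homologyFunctor (ModuleCat.{u} R) n).map (hs _ hn)).trans
          (Functor.map_zero _ _ _), zero_comp] at h
      exact (cancel_epi ((DerivedCategory.homologyFunctorFactors (ModuleCat.{u} R) n).hom.app X)).1
        (h.symm.trans comp_zero.symm)
    have hz : IsZero (X.homology n) := by
      let W := (HomologicalComplex.single (ModuleCat.{u} R) (ComplexShape.up ℤ) n).obj (I n)
      have h1 : X.homologyι n ≫ HomologicalComplex.opcyclesMap (ψ ⟨n⟩) n = 0 := by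
        rw [← HomologicalComplex.homologyι_naturality, h0, zero_comp]
      have h2 : HomologicalComplex.opcyclesMap (ψ ⟨n⟩) n = φ n ≫
          (HomologicalComplex.singleObjXSelf (ComplexShape.up ℤ) n (I n)).inv ≫ W.pOpcycles n := by
        rw [← cancel_epi (X.pOpcycles n), HomologicalComplex.p_opcyclesMap]
        simp [ψ, W, HomologicalComplex.mkHomToSingle_f]
      haveI : IsIso (W.pOpcycles n) := W.isIso_pOpcycles (n - 1) n (by simp) (HomologicalComplex.single_obj_d _ _ _ _ _)
      rw [h2, reassoc_of% (hφ n), ← zero_comp (f := (HomologicalComplex.singleObjXSelf (ComplexShape.up ℤ) n (I n)).inv ≫ W.pOpcycles n),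
        cancel_mono] at h1
      exact (IsZero.iff_id_eq_zero _).2 ((cancel_mono (Injective.ι (X.homology n))).1 (by rw [h1, comp_zero, zero_comp]))
    haveI := (subsingleton_HD_toD_iff X n).2 ((HomologicalComplex.exactAt_iff_isZero_homology _ _).2 hz)
    exact (PCoh.hEquiv n e).symm.injective.subsingleton
  let t : Finset ℤ := insert 0 (s.image ULift.down)
  refine ⟨t.min' (Finset.insert_nonempty _ _), t.max' (Finset.insert_nonempty _ _), fun i hi => hvan i fun hmem => ?_⟩
  have hit : i ∈ t := Finset.mem_insert_of_mem (Finset.mem_image_of_mem ULift.down hmem)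
  rcases hi with hi | hi
  · exact absurd (t.min'_le i hit) (not_le.2 hi)
  · exact absurd (t.le_max' i hit) (not_le.2 hi)

theorem isPerfect_of_supp {K : Dual.D R} (hK : Supp K) : DRing.IsPerfect R K := by
  obtain ⟨a, b, hab⟩ := bounded_of_supp hK
  obtain ⟨P, hP, ⟨e⟩⟩ := exists_projRep (c := b) fun i hi => hab i (Or.inr hi)
  let n : ULift.{u} ℕ → ℤ := fun k => -(k.down : ℤ)
  obtain ⟨s, hs⟩ := eventually_zero hK e (fun k => cokernel.π (KFlat.Brutal.ι P (n k))) fun i =>
    ((Set.finite_lt_nat (-i).toNat).preimage ULift.down_injective.injOn).subset fun k hk => by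
      by_contra hne
      exact hk ((KFlat.Brutal.isZero_cokernel P (n k) (show n k ≤ i by
        have : (-i).toNat ≤ k.down := not_lt.1 hne
        simp only [n]; omega)).eq_of_tgt _ _)
  haveI : Infinite (ULift.{u} ℕ) := Infinite.of_injective ULift.up ULift.up_injective
  obtain ⟨k, hk⟩ := Infinite.exists_notMem_finset s
  let T := DerivedCategory.triangleOfSES (KFlat.Brutal.shortExact P (n k))
  have hT : T ∈ distTriang _ := DerivedCategory.triangleOfSES_distinguished _
  obtain ⟨v, hv⟩ := Triangle.coyoneda_exact₂ T hT e.inv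
    ((congrArg (fun m => e.inv ≫ m) (hs k hk)).trans comp_zero)
  let G := KFlat.Brutal.geq P (n k)
  have hG : ∀ i, (i < n k ∨ n k + (b + 1 - n k).toNat ≤ i) → IsZero (G.X i) := fun i hi => by
    rcases hi with hi | hi
    · exact KFlat.Brutal.isZero_geq P _ hi
    · by_cases h : n k ≤ i
      · have := KFlat.Brutal.isIso_ι_f P (n k) h
        exact (hP.above i (by omega)).of_iso (asIso ((KFlat.Brutal.ι P (n k)).f i))
      · exact KFlat.Brutal.isZero_geq P _ (by omega)
  have hproj : ∀ i, Module.Projective R (G.X i) := fun i => by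
    by_cases h : n k ≤ i
    · have := KFlat.Brutal.isIso_ι_f P (n k) h
      haveI := hP.proj i
      exact Module.Projective.of_equiv (asIso ((KFlat.Brutal.ι P (n k)).f i)).toLinearEquiv.symm
    · haveI := ModuleCat.subsingleton_of_isZero (KFlat.Brutal.isZero_geq P _ (not_le.1 h))
      exact Module.Projective.of_lifting_property'' fun g _ => ⟨0, LinearMap.ext fun x => Subsingleton.elim _ _⟩
  obtain ⟨E, hE, z, u, hzu⟩ := factors hK _ _ G hG hproj v
  refine isPerfect_of_retract z (u ≫ T.mor₁ ≫ e.hom) ?_ hE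
  rw [← Category.assoc, hzu]
  exact (Category.assoc _ _ _).symm.trans ((congrArg (fun m => m ≫ e.hom) hv.symm).trans e.inv_hom_id)

end Groth.Agent.H4DR.Compact
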