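import Groth.Agent.H4DR.Compact.Telescope
import Groth.Agent.H4DR.TorAmp.Perfect
import Groth.Agent.H16Derived.ProjLift

/-!
# Finite support of maps into sums
-/

set_option autoImplicit false
set_option linter.style.haveILetI false

universe u

open CategoryTheory CategoryTheory.Limits CategoryTheory.Pretriangulated
open Groth.Agent.H16Derived

attribute [local instance] HasDerivedCategory.standard

namespace Groth.Agent.H4DR.Compact

open Groth.Agent.H4DR.TorAmp (IsProjRep)

variable {R : Type u} [CommRing R]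

/-- Every map from `K` into a sum of complexes has finite support. -/
def Supp (K : Dual.D R) : Prop :=
  ∀ (I : Type u) (Y : I → DRing.Cx R) (c : Cofan Y) (_ : IsColimit c) (x : K ⟶ DRing.toD c.pt),
    ∃ (s : Finset I) (a : ∀ k, K ⟶ DRing.toD (Y k)), x = ∑ k ∈ s, a k ≫ DerivedCategory.Q.map (c.inj k)

/-- The projection from a sum to a summand. -/
noncomputable def proj {C : Type*} [Category C] [HasZeroMorphisms C] {I : Type*} {Y : I → C} {c : Cofan Y}
    (hc : IsColimit c) (k : I) : c.pt ⟶ Y k :=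
  open Classical in Cofan.IsColimit.desc hc fun j => if h : j = k then eqToHom (congrArg Y h) else 0

lemma inj_proj {C : Type*} [Category C] [HasZeroMorphisms C] {I : Type*} {Y : I → C} {c : Cofan Y}
    (hc : IsColimit c) (k : I) : c.inj k ≫ proj hc k = 𝟙 _ := by
  rw [proj, Cofan.IsColimit.fac, dif_pos rfl, eqToHom_refl]

lemma inj_proj_ne {C : Type*} [Category C] [HasZeroMorphisms C] {I : Type*} {Y : I → C} {c : Cofan Y}
    (hc : IsColimit c) {j k : I} (h : j ≠ k) : c.inj j ≫ proj hc k = 0 := by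
  rw [proj, Cofan.IsColimit.fac, dif_neg h]

/-- `Q` carries a sum of complexes to a sum indexed one universe up. -/
noncomputable def isColimitQ {I : Type u} {Y : I → DRing.Cx R} {c : Cofan Y} (hc : IsColimit c) :
    IsColimit (Cofan.mk (f := fun i : ULift.{u + 1} I => DRing.toD (Y i.down)) (DRing.toD c.pt)
      fun i => DerivedCategory.Q.map (c.inj i.down)) :=
  haveI := QCoprod.preservesColimit_Q (A := ModuleCat.{u} R) Y
  let hQ : IsColimit (Cofan.mk (DRing.toD c.pt) fun k : I => DerivedCategory.Q.map (c.inj k)) :=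
    (isColimitMapCoconeCofanMkEquiv DerivedCategory.Q Y c.inj)
      (isColimitOfPreserves DerivedCategory.Q (IsColimit.ofIsoColimit hc (Cofan.ext (Iso.refl _) (by simp))))
  Cofan.IsColimit.mk _
    (fun s => Cofan.IsColimit.desc hQ fun k => s.inj ⟨k⟩)
    (fun s i => Cofan.IsColimit.fac hQ (fun k => s.inj ⟨k⟩) i.down)
    (fun s m hm => Cofan.IsColimit.hom_ext hQ _ _ fun k =>
      (hm ⟨k⟩).trans (Cofan.IsColimit.fac hQ (fun k => s.inj ⟨k⟩) k).symm)

lemma homSum_of {K : Dual.D R} {ι : Type (u + 1)} (X : ι → Dual.D R) [HasCoproduct X] [DecidableEq ι] (i : ι)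
    (a : K ⟶ X i) : CohDer.homSumToHomCoprod K X (DirectSum.of (fun j => K ⟶ X j) i a) = a ≫ Sigma.ι X i := by
  simp only [CohDer.homSumToHomCoprod]
  erw [DirectSum.toAddMonoid_of]
  rfl

theorem supp_of_bijective {K : Dual.D R}
    (hK : ∀ (I : Type u) (E : I → Dual.D R) [HasCoproduct fun i : ULift.{u + 1} I => E i.down],
      Function.Bijective (CohDer.homSumToHomCoprod K (fun i : ULift.{u + 1} I => E i.down))) : Supp K := by
  classical
  intro I Y c hc x
  let E : I → Dual.D R := fun k => DRing.toD (Y k)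
  haveI : HasCoproduct (fun i : ULift.{u + 1} I => E i.down) := ⟨⟨⟨_, isColimitQ hc⟩⟩⟩
  let p := (coproductIsCoproduct (fun i : ULift.{u + 1} I => E i.down)).coconePointUniqueUpToIso (isColimitQ hc)
  obtain ⟨b, hb⟩ := (hK I E).2 (x ≫ p.inv)
  refine ⟨b.support.image ULift.down, fun k => b ⟨k⟩, ?_⟩
  have hx : x = (CohDer.homSumToHomCoprod K (fun i : ULift.{u + 1} I => E i.down) b) ≫ p.hom := by
    rw [hb, Category.assoc, p.inv_hom_id]
    exact (Category.comp_id x).symm
  rw [hx]
  refine Eq.trans ?_ (Finset.sum_image (g := fun i : ULift.{u + 1} I => i.down)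
    (fun i _ j _ h => ULift.ext _ _ h)).symm
  conv_lhs => rw [← DirectSum.sum_support_of b, map_sum, Preadditive.sum_comp]
  refine Finset.sum_congr rfl fun i _ => ?_
  have hi : Sigma.ι (fun i : ULift.{u + 1} I => E i.down) i ≫ p.hom = DerivedCategory.Q.map (c.inj i.down) :=
    IsColimit.comp_coconePointUniqueUpToIso_hom (coproductIsCoproduct _) (isColimitQ hc) ⟨i⟩
  rw [homSum_of]
  exact (Category.assoc _ _ _).trans (congrArg (fun m => b i ≫ m) hi)

theorem bijective_of_supp {K : Dual.D R} (hK : Supp K) (I : Type u) (E : I → Dual.D R)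
    [HasCoproduct fun i : ULift.{u + 1} I => E i.down] :
    Function.Bijective (CohDer.homSumToHomCoprod K (fun i : ULift.{u + 1} I => E i.down)) := by
  classical
  let X := fun i : ULift.{u + 1} I => E i.down
  let π : ∀ k, (∐ X) ⟶ X k := fun k => proj (coproductIsCoproduct X) k
  constructor
  · have key : ∀ (b : DirectSum (ULift.{u + 1} I) fun i => K ⟶ X i) (k : ULift.{u + 1} I),
        CohDer.homSumToHomCoprod K X b ≫ π k = b k := by
      intro b k
      induction b using DirectSum.induction_on with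
      | zero => simp
      | of i a =>
        rw [homSum_of, Category.assoc]
        by_cases h : i = k
        · subst h
          rw [DirectSum.of_eq_same]
          exact (congrArg (fun m => a ≫ m) (inj_proj (coproductIsCoproduct X) i)).trans (Category.comp_id a)
        · rw [DirectSum.of_eq_of_ne _ _ _ (Ne.symm h)]
          exact (congrArg (fun m => a ≫ m) (inj_proj_ne (coproductIsCoproduct X) h)).trans comp_zero
      | add a b ha hb => rw [map_add, Preadditive.add_comp, ha, hb, DirectSum.add_apply]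
    intro b b' h
    refine DFunLike.ext _ _ fun k => ?_
    rw [← key b k, ← key b' k, h]
  · intro x
    let Y : I → DRing.Cx R := fun k => DerivedCategory.Q.objPreimage (E k)
    let e : ∀ i : ULift.{u + 1} I, DRing.toD (Y i.down) ≅ X i := fun i =>
      DerivedCategory.Q.objObjPreimageIso (E i.down)
    let c : Cofan Y := Cofan.mk (∐ Y) (Sigma.ι Y)
    have hc : IsColimit c := coproductIsCoproduct Y
    have hQ := isColimitQ hc
    let p : (∐ X) ⟶ DRing.toD c.pt := Sigma.desc fun i => (e i).inv ≫ DerivedCategory.Q.map (c.inj i.down)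
    let q : DRing.toD c.pt ⟶ ∐ X := Cofan.IsColimit.desc hQ fun i => (e i).hom ≫ Sigma.ι X i
    have hq : ∀ k : I, DerivedCategory.Q.map (c.inj k) ≫ q = (e ⟨k⟩).hom ≫ Sigma.ι X ⟨k⟩ := fun k =>
      Cofan.IsColimit.fac hQ _ ⟨k⟩
    have hpq : p ≫ q = 𝟙 _ := Sigma.hom_ext _ _ fun i => by
      rw [Sigma.ι_desc_assoc, Category.assoc, hq, Iso.inv_hom_id_assoc, Category.comp_id]
    obtain ⟨s, a, ha⟩ := hK I Y c hc (x ≫ p)
    refine ⟨∑ k ∈ s, DirectSum.of (fun i => K ⟶ X i) ⟨k⟩ (a k ≫ (e ⟨k⟩).hom), ?_⟩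
    rw [map_sum]
    refine Eq.trans ?_ ((Category.assoc x p q).trans ((congrArg (fun m => x ≫ m) hpq).trans (Category.comp_id x)))
    rw [ha, Preadditive.sum_comp]
    refine Finset.sum_congr rfl fun k _ => ?_
    rw [homSum_of, Category.assoc, Category.assoc, hq]

/-- Perfect objects: finite support. -/
theorem supp_of_isPerfect {K : Dual.D R} (hK : DRing.IsPerfect R K) : Supp K := by
  classical
  obtain ⟨E, a, b, hE, hF, ⟨e⟩⟩ := hK
  intro I Y c hc x
  have hrep : IsProjRep E b := ⟨fun i hi => hE i (Or.inr hi), fun i => (hF i).2⟩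
  haveI := hrep.isKProjective
  obtain ⟨ψ, hψ⟩ := ProjLift.Q_map_surjective E c.pt (e.hom ≫ x)
  have hdeg : ∀ i : ℤ, ∃ s : Finset I, LinearMap.range (ψ.f i).hom ≤
      ⨆ k ∈ s, LinearMap.range ((c.inj k).f i).hom := by
    intro i
    haveI := (hF i).1
    let S : I → Submodule R (c.pt.X i) := fun k => LinearMap.range ((c.inj k).f i).hom
    have hci : IsColimit (Cofan.mk (c.pt.X i) fun k => (c.inj k).f i) :=
      (isColimitMapCoconeCofanMkEquiv (HomologicalComplex.eval (ModuleCat.{u} R) (ComplexShape.up ℤ) i) Y c.inj)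
        (isColimitOfPreserves _ (IsColimit.ofIsoColimit hc (Cofan.ext (Iso.refl _) (by simp))))
    have htop : ⨆ k, S k = ⊤ := by
      have hS : ModuleCat.ofHom (⨆ k, S k).mkQ =
          (0 : c.pt.X i ⟶ ModuleCat.of R (c.pt.X i ⧸ ⨆ k, S k)) :=
        Cofan.IsColimit.hom_ext hci _ _ fun k => ModuleCat.hom_ext (LinearMap.ext fun z =>
          (Submodule.Quotient.mk_eq_zero _).2 (Submodule.mem_iSup_of_mem k ⟨z, rfl⟩))
      exact eq_top_iff.2 fun z _ => (Submodule.Quotient.mk_eq_zero _).1 (congrArg (fun f => f.hom z) hS)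
    have hfg : (LinearMap.range (ψ.f i).hom).FG := by
      rw [LinearMap.range_eq_map]; exact Module.Finite.fg_top.map _
    obtain ⟨g, hg⟩ := hfg
    have hmem : ∀ z : c.pt.X i, ∃ u : Finset I, z ∈ ⨆ k ∈ u, S k := fun z => by
      have hz : z ∈ ⨆ k, S k := htop ▸ Submodule.mem_top
      obtain ⟨f, hf, hsum⟩ := (Submodule.mem_iSup_iff_exists_finsupp _ z).1 hz
      exact ⟨f.support, hsum ▸ Submodule.sum_mem _ fun k hk =>
        Submodule.mem_iSup_of_mem k (Submodule.mem_iSup_of_mem hk (hf k))⟩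
    choose u hu using hmem
    refine ⟨g.biUnion u, hg ▸ Submodule.span_le.2 fun z hz => ?_⟩
    exact (biSup_mono (f := S) fun k hk => Finset.mem_biUnion.2 ⟨z, hz, hk⟩ :
      (⨆ k ∈ u z, S k) ≤ ⨆ k ∈ g.biUnion u, S k) (hu z)
  choose s hs using hdeg
  let t := (Finset.Icc a b).biUnion s
  have hψt : ψ = ∑ k ∈ t, (ψ ≫ proj hc k) ≫ c.inj k := by
    refine HomologicalComplex.hom_ext _ _ fun i => ?_
    by_cases hi : i < a ∨ b < i
    · exact (hE i hi).eq_of_src _ _
    refine ModuleCat.hom_ext (LinearMap.ext fun z => ?_)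
    have hmem : (ψ.f i).hom z ∈ ⨆ k ∈ t, LinearMap.range ((c.inj k).f i).hom := by
      exact (biSup_mono (f := fun k => LinearMap.range ((c.inj k).f i).hom) fun k hk =>
        Finset.mem_biUnion.2 ⟨i, Finset.mem_Icc.2 ⟨by omega, by omega⟩, hk⟩ :
        (⨆ k ∈ s i, LinearMap.range ((c.inj k).f i).hom) ≤ ⨆ k ∈ t, LinearMap.range ((c.inj k).f i).hom)
        (hs i ⟨z, rfl⟩)
    obtain ⟨w, hw⟩ := (Submodule.mem_iSup_finset_iff_exists_sum _ _).1 hmem
    choose v hv using fun k => (w k).2
    have hz : (ψ.f i).hom z = ∑ k ∈ t, ((c.inj k).f i).hom (v k) := by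
      rw [← hw]; exact Finset.sum_congr rfl fun k _ => (hv k).symm
    have hπ : ∀ k ∈ t, ((proj hc k).f i).hom ((ψ.f i).hom z) = v k := fun k hk => by
      rw [hz, map_sum, Finset.sum_eq_single k]
      rotate_left
      · exact fun j _ hj => congrArg (fun f => (f.f i).hom (v j)) (inj_proj_ne hc hj)
      · exact fun h => absurd hk h
      exact congrArg (fun f => (f.f i).hom (v k)) (inj_proj hc k)
    rw [hz]
    change _ = ((HomologicalComplex.eval (ModuleCat.{u} R) (ComplexShape.up ℤ) i).map _).hom z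
    rw [Functor.map_sum, ModuleCat.hom_sum]
    refine Eq.trans ?_ (LinearMap.sum_apply _ _ _).symm
    exact Finset.sum_congr rfl fun k hk => congrArg ((c.inj k).f i).hom (hπ k hk).symm
  refine ⟨t, fun k => e.inv ≫ DerivedCategory.Q.map (ψ ≫ proj hc k), ?_⟩
  rw [← Iso.inv_hom_id_assoc e x, ← hψ]
  conv_lhs => rw [hψt, Functor.map_sum, Preadditive.comp_sum]
  exact Finset.sum_congr rfl fun k _ => by rw [Functor.map_comp, Category.assoc]

/-- A locally finite family of maps is eventually zero. -/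
theorem eventually_zero {K : Dual.D R} (hK : Supp K) {X : DRing.Cx R} (e : DRing.toD X ≅ K) {I : Type u}
    {Y : I → DRing.Cx R} (ψ : ∀ k, X ⟶ Y k)
    (hfin : ∀ i : ℤ, {k | (ψ k).f i ≠ 0}.Finite) :
    ∃ s : Finset I, ∀ k, k ∉ s → DerivedCategory.Q.map (ψ k) = 0 := by
  classical
  let c : Cofan Y := Cofan.mk (∐ Y) (Sigma.ι Y)
  have hc : IsColimit c := coproductIsCoproduct Y
  let F : ∀ i, X.X i ⟶ c.pt.X i := fun i => ∑ k ∈ (hfin i).toFinset, (ψ k).f i ≫ (c.inj k).f i
  have hF : ∀ i (t : Finset I), (hfin i).toFinset ⊆ t → F i = ∑ k ∈ t, (ψ k).f i ≫ (c.inj k).f i :=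
    fun i t ht => Finset.sum_subset ht fun k _ hk => by
      rw [Set.Finite.mem_toFinset, Set.mem_ofPred_eq, not_not] at hk
      rw [hk, zero_comp]
  let Ψ : X ⟶ c.pt :=
    { f := F
      comm' := fun i j hij => by
        rw [hF i _ (Finset.subset_union_left (s₂ := (hfin j).toFinset)),
          hF j _ (Finset.subset_union_right (s₁ := (hfin i).toFinset)), Preadditive.sum_comp, Preadditive.comp_sum]
        exact Finset.sum_congr rfl fun k _ => by
          rw [Category.assoc, (c.inj k).comm i j, reassoc_of% ((ψ k).comm i j)] }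
  have hΨ : ∀ k, Ψ ≫ proj hc k = ψ k := fun k => HomologicalComplex.hom_ext _ _ fun i => by
    show F i ≫ (proj hc k).f i = _
    rw [hF i _ (Finset.subset_insert k _), Preadditive.sum_comp, Finset.sum_eq_single k
      (fun j _ hj => by
        rw [Category.assoc, ← HomologicalComplex.comp_f, inj_proj_ne hc hj, HomologicalComplex.zero_f, comp_zero])
      (fun h => absurd (Finset.mem_insert_self k _) h), Category.assoc, ← HomologicalComplex.comp_f, inj_proj hc k,
      HomologicalComplex.id_f, Category.comp_id]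
  obtain ⟨s, a, ha⟩ := hK I Y c hc (e.inv ≫ DerivedCategory.Q.map Ψ)
  refine ⟨s, fun k hk => (cancel_epi e.inv).1 ?_⟩
  rw [← hΨ k, Functor.map_comp, ← Category.assoc, ha, Preadditive.sum_comp, comp_zero]
  refine Finset.sum_eq_zero fun j hj => ?_
  rw [Category.assoc, ← Functor.map_comp, inj_proj_ne hc (show j ≠ k from fun h => hk (h ▸ hj)), Functor.map_zero, comp_zero]

end Groth.Agent.H4DR.Compact
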