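import Groth.Prelude.Def_DRing2
import Groth.Prelude.Def_CohDer
import Groth.Agent.H16Derived.QCoprod
import Groth.Agent.H4DR.TorAmp.Basic
import Mathlib.Algebra.Category.ModuleCat.FilteredColimits
import Mathlib.CategoryTheory.Abelian.GrothendieckCategory.Basic

/-!
# Sequential colimits and objects commuting with countable sums
-/

set_option autoImplicit false
set_option linter.style.haveILetI false

universe w v u

open CategoryTheory CategoryTheory.Limits CategoryTheory.Pretriangulated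
open Groth.Agent.H16Derived

attribute [local instance] HasDerivedCategory.standard

namespace Groth.Agent.H4DR.Compact

section General

variable {V : Type v} [Category V] [Preadditive V] (X : ℕ ⥤ V)
  (c : Cofan fun k : ULift.{w} ℕ => X.obj k.down) (hc : IsColimit c)

/-- `1 - shift` on the sum of a sequence. -/
noncomputable def dd : c.pt ⟶ c.pt :=
  𝟙 _ - Cofan.IsColimit.desc hc fun k => X.map (homOfLE (Nat.le_succ k.down)) ≫ c.inj ⟨k.down + 1⟩

/-- The map to the `M`-th term. -/
noncomputable def TT (M : ℕ) : c.pt ⟶ X.obj M :=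
  Cofan.IsColimit.desc hc fun k => if h : k.down ≤ M then X.map (homOfLE h) else 0

lemma inj_dd (k : ULift.{w} ℕ) :
    c.inj k ≫ dd X c hc = c.inj k - X.map (homOfLE (Nat.le_succ k.down)) ≫ c.inj ⟨k.down + 1⟩ := by
  rw [dd, Preadditive.comp_sub, Category.comp_id, Cofan.IsColimit.fac]

lemma inj_TT_le (k : ULift.{w} ℕ) (M : ℕ) (h : k.down ≤ M) : c.inj k ≫ TT X c hc M = X.map (homOfLE h) := by
  rw [TT, Cofan.IsColimit.fac, dif_pos h]

lemma inj_TT_gt (k : ULift.{w} ℕ) (M : ℕ) (h : ¬k.down ≤ M) : c.inj k ≫ TT X c hc M = 0 := by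
  rw [TT, Cofan.IsColimit.fac, dif_neg h]

lemma inj_dd_TT_self (k : ULift.{w} ℕ) : c.inj k ≫ dd X c hc ≫ TT X c hc k.down = 𝟙 _ := by
  rw [← Category.assoc, inj_dd, Preadditive.sub_comp, Category.assoc, inj_TT_le X c hc k _ le_rfl,
    inj_TT_gt X c hc ⟨k.down + 1⟩ k.down (Nat.not_succ_le_self _), comp_zero, sub_zero]
  exact X.map_id _

lemma inj_dd_TT_ne (k : ULift.{w} ℕ) (M : ℕ) (h : k.down ≠ M) : c.inj k ≫ dd X c hc ≫ TT X c hc M = 0 := by
  rw [← Category.assoc, inj_dd, Preadditive.sub_comp, Category.assoc]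
  by_cases hle : k.down ≤ M
  · rw [inj_TT_le X c hc k M hle, inj_TT_le X c hc ⟨k.down + 1⟩ M (lt_of_le_of_ne hle h), ← Functor.map_comp,
      homOfLE_comp]
    exact sub_self _
  · rw [inj_TT_gt X c hc k M hle, inj_TT_gt X c hc ⟨k.down + 1⟩ M (fun h' => hle (Nat.le_of_succ_le h')),
      comp_zero, sub_zero]

variable (t : Cocone X)

/-- The map to the colimit. -/
noncomputable def gg : c.pt ⟶ t.pt := Cofan.IsColimit.desc hc fun k => t.ι.app k.down

lemma inj_gg (k : ULift.{w} ℕ) : c.inj k ≫ gg X c hc t = t.ι.app k.down := Cofan.IsColimit.fac _ _ _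

lemma dd_gg : dd X c hc ≫ gg X c hc t = 0 := Cofan.IsColimit.hom_ext hc _ _ fun k => by
  rw [← Category.assoc, inj_dd, Preadditive.sub_comp, Category.assoc, inj_gg, inj_gg, comp_zero,
    t.w (homOfLE (Nat.le_succ k.down)), sub_self]

end General

variable {R : Type u} [CommRing R]

section Modules

variable (X : ℕ ⥤ ModuleCat.{u} R) (c : Cofan fun k : ULift.{u} ℕ => X.obj k.down) (hc : IsColimit c)

include hc in
lemma exists_finsum_modules (z : c.pt) :
    ∃ (s : Finset (ULift.{u} ℕ)) (a : ∀ k : ULift.{u} ℕ, X.obj k.down),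
      z = ∑ k ∈ s, (c.inj k).hom (a k) := by
  classical
  let S : Submodule R c.pt := ⨆ k, LinearMap.range (c.inj k).hom
  have hS : ModuleCat.ofHom S.mkQ = (0 : c.pt ⟶ ModuleCat.of R (c.pt ⧸ S)) :=
    Cofan.IsColimit.hom_ext hc _ _ fun k => ModuleCat.hom_ext (LinearMap.ext fun a =>
      (Submodule.Quotient.mk_eq_zero S).2 (Submodule.mem_iSup_of_mem k ⟨a, rfl⟩))
  have hz : z ∈ S := (Submodule.Quotient.mk_eq_zero S).1 (congrArg (fun f => f.hom z) hS)
  obtain ⟨f, hf, hsum⟩ := (Submodule.mem_iSup_iff_exists_finsupp _ z).1 hz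
  choose a ha using hf
  exact ⟨f.support, a, by rw [← hsum, Finsupp.sum]; exact Finset.sum_congr rfl fun k _ => (ha k).symm⟩

/-- The telescope of a sequence of modules. -/
theorem shortExact_modules (t : Cocone X) (ht : IsColimit t) :
    (ShortComplex.mk (dd X c hc) (gg X c hc t) (dd_gg X c hc t)).ShortExact := by
  classical
  have hinj : ∀ z, (dd X c hc).hom z = 0 → z = 0 := fun z hz => by
    obtain ⟨s, a, rfl⟩ := exists_finsum_modules X c hc z
    have h0 : ∀ k ∈ s, a k = 0 := fun k hk => by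
      have := congrArg (TT X c hc k.down).hom hz
      rw [map_zero, map_sum, map_sum] at this
      rw [Finset.sum_eq_single k] at this
      rotate_left
      · exact fun j _ hj => congrArg (fun f => f.hom (a j)) (inj_dd_TT_ne X c hc j k.down
          fun e => hj (ULift.ext _ _ e))
      · exact fun h => absurd hk h
      exact (congrArg (fun f => f.hom (a k)) (inj_dd_TT_self X c hc k)).symm.trans this
    exact Finset.sum_eq_zero fun k hk => by rw [h0 k hk, map_zero]
  haveI : PreservesFilteredColimitsOfSize.{0, 0} (forget (ModuleCat.{u} R)) :=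
    preservesFilteredColimitsOfSize_shrink _
  let I := LinearMap.range (dd X c hc).hom
  have hmove : ∀ (k M : ℕ) (h : k ≤ M) (a : X.obj k),
      (c.inj ⟨k⟩).hom a - (c.inj ⟨M⟩).hom ((X.map (homOfLE h)).hom a) ∈ I := fun k M h a => by
    induction M, h using Nat.le_induction with
    | base =>
      rw [Subsingleton.elim (homOfLE _) (𝟙 k), X.map_id]
      simp
    | succ M hM ih =>
      have e : (c.inj ⟨M⟩).hom ((X.map (homOfLE hM)).hom a) -
          (c.inj ⟨M + 1⟩).hom ((X.map (homOfLE (Nat.le_succ M))).hom ((X.map (homOfLE hM)).hom a)) ∈ I :=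
        ⟨(c.inj ⟨M⟩).hom ((X.map (homOfLE hM)).hom a),
          congrArg (fun f => f.hom ((X.map (homOfLE hM)).hom a)) (inj_dd X c hc ⟨M⟩)⟩
      have := add_mem ih e
      rw [sub_add_sub_cancel] at this
      rw [← homOfLE_comp hM (Nat.le_succ M), X.map_comp]
      exact this
  refine ModuleCat.shortComplex_shortExact _ (fun z => ⟨fun hz => ?_, ?_⟩)
    ((injective_iff_map_eq_zero _).2 hinj) (fun y => ?_)
  · obtain ⟨s, a, rfl⟩ := exists_finsum_modules X c hc z
    let N := s.sup ULift.down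
    let w : X.obj N := ∑ k ∈ s.attach, (X.map (homOfLE (Finset.le_sup (f := ULift.down) k.2))).hom (a k.1)
    have hw : (∑ k ∈ s, (c.inj k).hom (a k)) - (c.inj ⟨N⟩).hom w ∈ I := by
      rw [map_sum, ← Finset.sum_attach s, ← Finset.sum_sub_distrib]
      exact sum_mem fun k _ => hmove k.1.down N _ (a k.1)
    have hw0 : (t.ι.app N).hom w = 0 := by
      obtain ⟨v, hv⟩ := hw
      have h1 := congrArg (fun f => f.hom v) (dd_gg X c hc t)
      have h2 : (gg X c hc t).hom ((dd X c hc).hom v) = 0 := h1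
      rw [hv, map_sub, show (gg X c hc t).hom (∑ k ∈ s, (c.inj k).hom (a k)) = 0 from hz, zero_sub,
        neg_eq_zero] at h2
      exact (congrArg (fun f => f.hom w) (inj_gg X c hc t ⟨N⟩)).symm.trans h2
    obtain ⟨M, f₁, f₂, hM⟩ := Concrete.isColimit_exists_of_rep_eq X ht w 0
      (hw0.trans (map_zero _).symm)
    have hfin := add_mem hw (hmove N M (leOfHom f₁) w)
    rw [sub_add_sub_cancel, Subsingleton.elim (homOfLE (leOfHom f₁)) f₁,
      show (X.map f₁).hom w = (X.map f₂).hom 0 from hM, map_zero, map_zero, sub_zero] at hfin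
    exact hfin
  · rintro ⟨v, rfl⟩
    exact congrArg (fun f => f.hom v) (dd_gg X c hc t)
  · obtain ⟨j, a, ha⟩ := Concrete.isColimit_exists_rep X ht y
    exact ⟨(c.inj ⟨j⟩).hom a, (congrArg (fun f => f.hom a) (inj_gg X c hc t ⟨j⟩)).trans ha⟩

end Modules

variable (K : Dual.D R) (hK : ∀ (E : ℕ → Dual.D R) [HasCoproduct fun i : ULift.{u + 1} ℕ => E i.down],
      Function.Bijective (CohDer.homSumToHomCoprod K (fun i : ULift.{u + 1} ℕ => E i.down)))

include hK in
/-- Maps from `K` into a countable sum have finite support. -/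
theorem exists_finsum (Y : ℕ → DRing.Cx R) (c : Cofan fun k : ULift.{u} ℕ => Y k.down) (hc : IsColimit c)
    (x : K ⟶ DRing.toD c.pt) :
    ∃ (s : Finset (ULift.{u} ℕ)) (a : ∀ k : ULift.{u} ℕ, K ⟶ DRing.toD (Y k.down)),
      x = ∑ k ∈ s, a k ≫ DerivedCategory.Q.map (c.inj k) := by
  classical
  haveI := QCoprod.preservesColimit_Q (A := ModuleCat.{u} R) (fun k : ULift.{u} ℕ => Y k.down)
  have hQ : IsColimit (Cofan.mk (DRing.toD c.pt) fun k : ULift.{u} ℕ => DerivedCategory.Q.map (c.inj k)) :=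
    (isColimitMapCoconeCofanMkEquiv DerivedCategory.Q (fun k : ULift.{u} ℕ => Y k.down) c.inj)
      (isColimitOfPreserves DerivedCategory.Q (IsColimit.ofIsoColimit hc (Cofan.ext (Iso.refl _) (by simp))))
  let E : ℕ → Dual.D R := fun k => DRing.toD (Y k)
  let c' : Cofan (fun i : ULift.{u + 1} ℕ => E i.down) :=
    Cofan.mk (DRing.toD c.pt) fun i => DerivedCategory.Q.map (c.inj ⟨i.down⟩)
  have hc' : IsColimit c' := mkCofanColimit _
    (fun s => Cofan.IsColimit.desc hQ fun k => s.inj ⟨k.down⟩)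
    (fun s i => Cofan.IsColimit.fac hQ (fun k => s.inj ⟨k.down⟩) ⟨i.down⟩)
    (fun s m hm => Cofan.IsColimit.hom_ext hQ _ _ fun k =>
      (hm ⟨k.down⟩).trans (Cofan.IsColimit.fac hQ (fun k => s.inj ⟨k.down⟩) k).symm)
  haveI : HasCoproduct (fun i : ULift.{u + 1} ℕ => E i.down) := ⟨⟨⟨c', hc'⟩⟩⟩
  let p := (coproductIsCoproduct (fun i : ULift.{u + 1} ℕ => E i.down)).coconePointUniqueUpToIso hc'
  obtain ⟨b, hb⟩ := (hK E).2 (x ≫ p.inv)
  refine ⟨b.support.image fun i => ⟨i.down⟩, fun k => b ⟨k.down⟩, ?_⟩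
  have hx : x = (CohDer.homSumToHomCoprod K (fun i : ULift.{u + 1} ℕ => E i.down) b) ≫ p.hom := by
    rw [hb, Category.assoc, p.inv_hom_id]
    exact (Category.comp_id x).symm
  rw [hx]
  refine Eq.trans ?_ (Finset.sum_image (g := fun i : ULift.{u + 1} ℕ => (⟨i.down⟩ : ULift.{u} ℕ))
    (fun i _ j _ h => ULift.ext _ _ (congrArg (fun z : ULift.{u} ℕ => z.down) h))).symm
  conv_lhs => rw [← DirectSum.sum_support_of b, map_sum, Preadditive.sum_comp]
  refine Finset.sum_congr rfl fun i _ => ?_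
  have hi : Sigma.ι (fun i : ULift.{u + 1} ℕ => E i.down) i ≫ p.hom = DerivedCategory.Q.map (c.inj ⟨i.down⟩) :=
    IsColimit.comp_coconePointUniqueUpToIso_hom (coproductIsCoproduct _) hc' ⟨i⟩
  simp only [CohDer.homSumToHomCoprod]
  erw [DirectSum.toAddMonoid_of]
  exact (Category.assoc _ _ _).trans (congrArg (fun m => b i ≫ m) hi)

section Complexes

variable (X : ℕ ⥤ DRing.Cx R) (c : Cofan fun k : ULift.{u} ℕ => X.obj k.down) (hc : IsColimit c)

include hK in
lemma eq_zero_of_comp_dd (x : K ⟶ DRing.toD c.pt) (h : x ≫ DerivedCategory.Q.map (dd X c hc) = 0) : x = 0 := by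
  classical
  obtain ⟨s, a, rfl⟩ := exists_finsum K hK X.obj c hc x
  refine Finset.sum_eq_zero fun k hk => ?_
  have := congrArg (fun m => m ≫ DerivedCategory.Q.map (TT X c hc k.down)) h
  simp only [Preadditive.sum_comp, Category.assoc, ← Functor.map_comp, zero_comp] at this
  rw [Finset.sum_eq_single k] at this
  rotate_left
  · intro j _ hj
    rw [inj_dd_TT_ne X c hc j k.down (fun e => hj (ULift.ext _ _ e)), Functor.map_zero, comp_zero]
  · exact fun h' => absurd hk h'
  rw [inj_dd_TT_self] at this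
  erw [DerivedCategory.Q.map_id, Category.comp_id] at this
  rw [this, zero_comp]

variable (t : Cocone X) (ht : IsColimit t)

include ht in
lemma shortExact_cx : (ShortComplex.mk (dd X c hc) (gg X c hc t) (dd_gg X c hc t)).ShortExact := by
  refine HomologicalComplex.shortExact_of_degreewise_shortExact _ fun i => ?_
  let ev := HomologicalComplex.eval (ModuleCat.{u} R) (ComplexShape.up ℤ) i
  let ci : Cofan fun k : ULift.{u} ℕ => (X ⋙ ev).obj k.down := Cofan.mk (ev.obj c.pt) fun k => ev.map (c.inj k)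
  have hci : IsColimit ci :=
    (isColimitMapCoconeCofanMkEquiv ev (fun k : ULift.{u} ℕ => X.obj k.down) c.inj)
      (isColimitOfPreserves ev (IsColimit.ofIsoColimit hc (Cofan.ext (Iso.refl _) (by simp))))
  haveI : HasColimitsOfShape ℕ (ModuleCat.{u} R) := inferInstance
  have e1 : (dd X c hc).f i = dd (X ⋙ ev) ci hci := Cofan.IsColimit.hom_ext hci _ _ fun k => by
    refine Eq.trans ?_ (inj_dd (X ⋙ ev) ci hci k).symm
    exact congrArg (fun f => f.f i) (inj_dd X c hc k)
  have e2 : (gg X c hc t).f i = gg (X ⋙ ev) ci hci (ev.mapCocone t) := Cofan.IsColimit.hom_ext hci _ _ fun k => by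
    refine Eq.trans ?_ (inj_gg (X ⋙ ev) ci hci (ev.mapCocone t) k).symm
    exact congrArg (fun f => f.f i) (inj_gg X c hc t k)
  refine ShortComplex.shortExact_of_iso ?_
    (shortExact_modules (X ⋙ ev) ci hci (ev.mapCocone t) (isColimitOfPreserves ev ht))
  refine ShortComplex.isoMk (Iso.refl _) (Iso.refl _) (Iso.refl _) ?_ ?_
  · exact (Category.id_comp _).trans (e1.trans (Category.comp_id _).symm)
  · exact (Category.id_comp _).trans (e2.trans (Category.comp_id _).symm)

end Complexes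

include hK in
theorem main (X : ℕ ⥤ DRing.Cx R) (t : Cocone X) (ht : IsColimit t) :
    (∀ x : K ⟶ DRing.toD t.pt, ∃ (n : ℕ) (y : K ⟶ DRing.toD (X.obj n)),
        y ≫ DerivedCategory.Q.map (t.ι.app n) = x) ∧
      (∀ (n : ℕ) (y : K ⟶ DRing.toD (X.obj n)), y ≫ DerivedCategory.Q.map (t.ι.app n) = 0 →
        ∃ (m : ℕ) (h : n ≤ m), y ≫ DerivedCategory.Q.map (X.map (homOfLE h)) = 0) := by
  classical
  let Y := fun k : ULift.{u} ℕ => X.obj k.down
  let c : Cofan Y := Cofan.mk (∐ Y) (Sigma.ι Y)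
  have hc : IsColimit c := coproductIsCoproduct Y
  have hS := shortExact_cx X c hc t ht
  let T := DerivedCategory.triangleOfSES hS
  have hT : T ∈ distTriang _ := DerivedCategory.triangleOfSES_distinguished hS
  -- the shifted system
  let sh := shiftFunctor (DRing.Cx R) (1 : ℤ)
  let c₁ : Cofan fun k : ULift.{u} ℕ => (X ⋙ sh).obj k.down := Cofan.mk (sh.obj c.pt) fun k => sh.map (c.inj k)
  have hc₁ : IsColimit c₁ :=
    (isColimitMapCoconeCofanMkEquiv sh Y c.inj) (isColimitOfPreserves sh hc)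
  have e1 : sh.map (dd X c hc) = dd (X ⋙ sh) c₁ hc₁ := Cofan.IsColimit.hom_ext hc₁ _ _ fun k => by
    rw [inj_dd]
    show sh.map (c.inj k) ≫ sh.map (dd X c hc) =
      sh.map (c.inj k) - sh.map (X.map (homOfLE (Nat.le_succ k.down))) ≫ sh.map (c.inj ⟨k.down + 1⟩)
    rw [← Functor.map_comp, inj_dd, Functor.map_sub, Functor.map_comp]
  refine ⟨fun x => ?_, fun n y hy => ?_⟩
  · let γ := (DerivedCategory.Q (C := ModuleCat.{u} R)).commShiftIso (1 : ℤ)
    have h31 : T.mor₃ ≫ T.mor₁⟦(1 : ℤ)⟧' = 0 := comp_distTriang_mor_zero₃₁ T hT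
    have h1 : (x ≫ T.mor₃ ≫ γ.inv.app c.pt) ≫ DerivedCategory.Q.map (dd (X ⋙ sh) c₁ hc₁) = 0 := by
      rw [← e1]
      refine (Category.assoc _ _ _).trans ?_
      refine Eq.trans (congrArg (fun m => x ≫ m) ?_) comp_zero
      refine (Category.assoc _ _ _).trans ?_
      refine (congrArg (fun m => T.mor₃ ≫ m) (γ.inv.naturality (dd X c hc)).symm).trans ?_
      exact (Category.assoc _ _ _).symm.trans ((congrArg (fun m => m ≫ _) h31).trans zero_comp)
    have h2 := eq_zero_of_comp_dd K hK (X ⋙ sh) c₁ hc₁ _ h1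
    have h3 : x ≫ T.mor₃ = 0 := by
      exact (cancel_mono (γ.inv.app c.pt)).1 ((Category.assoc _ _ _).trans (h2.trans zero_comp.symm))
    obtain ⟨(y : K ⟶ DRing.toD c.pt), (hy : x = y ≫ DerivedCategory.Q.map (gg X c hc t))⟩ :=
      Triangle.coyoneda_exact₃ T hT x h3
    obtain ⟨s, a, ha⟩ := exists_finsum K hK X.obj c hc y
    have hk : ∀ k ∈ s, k.down ≤ s.sup ULift.down := fun k hk => Finset.le_sup (f := ULift.down) hk
    refine ⟨s.sup ULift.down,
      ∑ k ∈ s.attach, a k.1 ≫ DerivedCategory.Q.map (X.map (homOfLE (hk k.1 k.2))), ?_⟩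
    refine (Eq.trans ?_ hy.symm)
    rw [ha, Preadditive.sum_comp, Preadditive.sum_comp, ← Finset.sum_attach s]
    refine Finset.sum_congr rfl fun k _ => ?_
    rw [Category.assoc, Category.assoc, ← Functor.map_comp, t.w]
    exact congrArg (fun m => a k.1 ≫ m) ((congrArg (fun m => DerivedCategory.Q.map m)
      (inj_gg X c hc t k.1)).symm.trans (DerivedCategory.Q.map_comp _ _))
  · have h : (y ≫ DerivedCategory.Q.map (c.inj ⟨n⟩)) ≫ DerivedCategory.Q.map (gg X c hc t) = 0 := by
      rw [Category.assoc]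
      refine Eq.trans (congrArg (fun m => y ≫ m) ?_) hy
      exact (DerivedCategory.Q.map_comp _ _).symm.trans (congrArg _ (inj_gg X c hc t ⟨n⟩))
    obtain ⟨(z : K ⟶ DRing.toD c.pt),
        (hz : y ≫ DerivedCategory.Q.map (c.inj ⟨n⟩) = z ≫ DerivedCategory.Q.map (dd X c hc))⟩ :=
      Triangle.coyoneda_exact₂ T hT _ h
    obtain ⟨s, a, ha⟩ := exists_finsum K hK X.obj c hc z
    let M := max n (s.sup ULift.down + 1)
    refine ⟨M, le_max_left _ _, ?_⟩
    have h4 := congrArg (fun m => m ≫ DerivedCategory.Q.map (TT X c hc M)) hz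
    simp only [ha, Category.assoc] at h4
    rw [Preadditive.sum_comp, Finset.sum_eq_zero, ← Functor.map_comp, inj_TT_le X c hc ⟨n⟩ M (le_max_left _ _)] at h4
    · exact h4
    · intro k hk
      have hne : k.down ≠ M := fun e => by
        have := Finset.le_sup (f := ULift.down) hk
        omega
      have e := congrArg (fun m => a k ≫ DerivedCategory.Q.map m) (inj_dd_TT_ne X c hc k M hne)
      simp only [Functor.map_zero, comp_zero, Functor.map_comp] at e
      rw [Category.assoc]
      exact e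

end Groth.Agent.H4DR.Compact
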